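import Groth.Agent.Lib.AmpleDimOne.Local
import Mathlib.RingTheory.Localization.AtPrime.Basic
import Mathlib.RingTheory.Localization.Submodule

/-!
# The branches at a closed point of a one-dimensional ring
-/

universe u

set_option autoImplicit false
set_option linter.style.haveILetI false

noncomputable section

namespace GrothLib.AmpleDimOne

theorem isOneDim_range {R : Type u} [CommRing R] [IsNoetherianRing R] [IsLocalRing R]
    {K : Type u} [Field K] (P : Ideal R) [P.IsPrime] (χ : R →+* K) (hker : RingHom.ker χ = P)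
    (hfrac : ∀ z : K, ∃ a b : R, b ∉ P ∧ z = χ a / χ b)
    (hP : P ≠ IsLocalRing.maximalIdeal R)
    (hdim : ∀ Q : Ideal R, Q.IsPrime → P < Q → Q = IsLocalRing.maximalIdeal R) :
    SemiLoc.IsOneDim χ.range ∧ Finite (MaximalSpectrum χ.range) ∧ IsLocalRing χ.range := by
  have hsurj : Function.Surjective χ.rangeRestrict := χ.rangeRestrict_surjective
  haveI : Nontrivial χ.range := ⟨⟨0, 1, fun h => zero_ne_one (congrArg Subtype.val h)⟩⟩
  haveI hloc : IsLocalRing χ.range := IsLocalRing.of_surjective' χ.rangeRestrict hsurj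
  have hcomap : ∀ Q : Ideal χ.range, Q.IsPrime → Q.comap χ.rangeRestrict = P ∨
      Q.comap χ.rangeRestrict = IsLocalRing.maximalIdeal R := by
    intro Q hQ
    haveI := hQ
    rcases eq_or_lt_of_le (show P ≤ Q.comap χ.rangeRestrict by
      rw [← hker, ← χ.ker_rangeRestrict]
      exact Ideal.ker_le_comap _) with h | h
    · exact Or.inl h.symm
    · exact Or.inr (hdim _ inferInstance h)
  refine ⟨⟨?_, isNoetherianRing_of_surjective R χ.range χ.rangeRestrict hsurj, ⟨?_⟩, ?_⟩, ?_, hloc⟩
  · refine IsFractionRing.of_field χ.range K fun z => ?_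
    obtain ⟨a, b, hb, rfl⟩ := hfrac z
    exact ⟨⟨χ a, a, rfl⟩, ⟨χ b, b, rfl⟩, rfl⟩
  · intro Q hQ0 hQ
    rcases hcomap Q hQ with h | h
    · refine absurd ?_ hQ0
      rw [← Ideal.map_comap_of_surjective _ hsurj Q, h, Ideal.map_eq_bot_iff_le_ker, χ.ker_rangeRestrict, hker]
    · rw [← Ideal.map_comap_of_surjective _ hsurj Q, h]
      refine (Ideal.map_eq_top_or_isMaximal_of_surjective _ hsurj
        (IsLocalRing.maximalIdeal.isMaximal R)).resolve_left ?_
      rw [← h, Ideal.map_comap_of_surjective _ hsurj Q]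
      exact hQ.ne_top
  · intro hf
    refine hP (Eq.symm ?_)
    letI := hf.toField
    have : (RingHom.ker χ.rangeRestrict).IsMaximal := RingHom.ker_isMaximal_of_surjective _ hsurj
    rw [χ.ker_rangeRestrict, hker] at this
    exact (IsLocalRing.eq_maximalIdeal this).symm
  · haveI : Subsingleton (MaximalSpectrum χ.range) := ⟨fun a b => MaximalSpectrum.ext
      ((IsLocalRing.eq_maximalIdeal a.isMaximal).trans (IsLocalRing.eq_maximalIdeal b.isMaximal).symm)⟩
    infer_instance

/-- The branches of `A` at `𝔭`, as maps out of `D = A[1/f]`. -/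
structure Branches (A : Type u) [CommRing A] (𝔭 : Ideal A) (D : Type u) [CommRing D] [Algebra A D] where
  /-- the index type -/
  ι : Type u
  finite : Finite ι
  /-- the fields -/
  K : ι → Type u
  field : ∀ i, Field (K i)
  /-- the maps -/
  χ : ∀ i, letI := field i; D →+* K i
  /-- the local rings of the branches -/
  B : ∀ i, letI := field i; Subring (K i)
  oneDim : ∀ i, letI := field i; SemiLoc.IsOneDim (B i)
  semilocal : ∀ i, letI := field i; Finite (MaximalSpectrum (B i))
  centre : ∀ i, letI := field i; ∀ O : ValuationSubring (K i), B i ≤ O.toSubring → O ≠ ⊤ →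
    ∃ hA : ∀ a : A, χ i (algebraMap A D a) ∈ O, ∀ a : A, a ∈ 𝔭 ↔
      (⟨χ i (algebraMap A D a), hA a⟩ : O) ∈ IsLocalRing.maximalIdeal O
  inv : ∀ y : D, (∀ i, letI := field i; ∃ n, 0 < n ∧ ∃ b ∈ Ideal.jacobson (⊥ : Ideal (B i)),
      χ i y ^ n * (b : K i) = 1) →
    ∃ M, 0 < M ∧ ∃ a ∈ 𝔭, ∃ s ∉ 𝔭, ∃ s' ∉ 𝔭,
      algebraMap A D s' * (y ^ M * algebraMap A D a - algebraMap A D s) = 0

/-- The branches exist. -/
theorem nonempty_branches {A : Type u} [CommRing A] [IsNoetherianRing A] (𝔭 : Ideal A) [𝔭.IsPrime]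
    (f : A) (hf𝔭 : f ∈ 𝔭) (h1 : ∀ p : Ideal A, p.IsPrime → p ≤ 𝔭 → f ∈ p → p = 𝔭)
    (h2 : ∀ p q : Ideal A, p.IsPrime → q.IsPrime → p < q → q < 𝔭 → False)
    (D : Type u) [CommRing D] [Algebra A D] [IsLocalization.Away f D] :
    Nonempty (Branches A 𝔭 D) := by
  classical
  let R := Localization.AtPrime 𝔭
  haveI : IsNoetherianRing R := IsLocalization.isNoetherianRing 𝔭.primeCompl _ inferInstance
  let fR : R := algebraMap A R f
  let L := Localization.Away fR
  have hcomap : (IsLocalRing.maximalIdeal R).comap (algebraMap A R) = 𝔭 :=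
    Localization.AtPrime.comap_maximalIdeal
  have hfm : fR ∈ IsLocalRing.maximalIdeal R := hcomap.ge hf𝔭
  have hinjc : ∀ P Q : Ideal R, P.comap (algebraMap A R) = Q.comap (algebraMap A R) → P = Q :=
    fun P Q h => (IsLocalization.map_comap 𝔭.primeCompl R P).symm.trans
      ((congrArg (Ideal.map (algebraMap A R)) h).trans (IsLocalization.map_comap 𝔭.primeCompl R Q))
  have hle : ∀ P : Ideal R, P.IsPrime → P.comap (algebraMap A R) ≤ 𝔭 := fun P hP =>
    (Ideal.comap_mono (IsLocalRing.le_maximalIdeal hP.ne_top)).trans hcomap.le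
  have hh : ∀ P : Ideal R, P.IsPrime → fR ∈ P → P = IsLocalRing.maximalIdeal R := fun P hP hfP =>
    hinjc _ _ ((h1 _ (hP.comap _) (hle P hP) hfP).trans hcomap.symm)
  have hdim : ∀ P Q : Ideal R, P.IsPrime → Q.IsPrime → P < Q → Q = IsLocalRing.maximalIdeal R := by
    intro P Q hP hQ hPQ
    by_contra hne
    refine h2 _ _ (hP.comap (algebraMap A R)) (hQ.comap (algebraMap A R))
      (lt_of_le_of_ne (Ideal.comap_mono hPQ.le) fun h => hPQ.ne (hinjc _ _ h))
      (lt_of_le_of_ne (hle Q hQ) fun h => hne (hinjc _ _ (h.trans hcomap.symm)))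
  let ι := {P : PrimeSpectrum R // P.asIdeal ≠ IsLocalRing.maximalIdeal R}
  have hfin : Finite ι := by
    haveI := (minimalPrimes.finite_of_isNoetherianRing R).to_subtype
    refine Finite.of_injective (fun P => (⟨P.1.asIdeal, ?_⟩ : minimalPrimes R))
      fun P Q h => Subtype.ext (PrimeSpectrum.ext (congrArg Subtype.val h :))
    refine ⟨⟨P.1.isPrime, bot_le⟩, fun Q hQ hQle => ?_⟩
    by_contra h
    exact P.2 (hdim Q P.1.asIdeal hQ.1 P.1.isPrime (lt_of_le_not_ge hQle h))
  let K : ι → Type u := fun i => FractionRing (R ⧸ i.1.asIdeal)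
  let μ : ∀ i : ι, R →+* K i := fun i =>
    (algebraMap (R ⧸ i.1.asIdeal) (K i)).comp (Ideal.Quotient.mk i.1.asIdeal)
  have hμker : ∀ i : ι, RingHom.ker (μ i) = i.1.asIdeal := fun i => by
    rw [RingHom.ker_comp_of_injective _ (IsFractionRing.injective (R ⧸ i.1.asIdeal) (K i)), Ideal.mk_ker]
  have hμfrac : ∀ (i : ι) (z : K i), ∃ a b : R, b ∉ i.1.asIdeal ∧ z = μ i a / μ i b := by
    intro i z
    obtain ⟨a, b, hb, rfl⟩ := IsFractionRing.div_surjective (A := R ⧸ i.1.asIdeal) z
    obtain ⟨a, rfl⟩ := Ideal.Quotient.mk_surjective a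
    obtain ⟨b, rfl⟩ := Ideal.Quotient.mk_surjective b
    exact ⟨a, b, fun h => nonZeroDivisors.ne_zero hb (Ideal.Quotient.eq_zero_iff_mem.mpr h), rfl⟩
  have hB := fun i : ι => isOneDim_range i.1.asIdeal (μ i) (hμker i) (hμfrac i) i.2
    fun Q hQ hlt => hdim _ Q i.1.isPrime hQ hlt
  have hμf : ∀ i : ι, IsUnit (μ i fR) := fun i => isUnit_iff_ne_zero.mpr fun h => by
    have h' : fR ∈ i.1.asIdeal := by rw [← hμker i]; exact h
    exact i.2 (hh _ i.1.isPrime h')
  let χ : ∀ i : ι, L →+* K i := fun i => IsLocalization.Away.lift fR (hμf i)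
  have hχ : ∀ (i : ι) (r : R), χ i (algebraMap R L r) = μ i r := fun i r =>
    IsLocalization.Away.lift_eq _ _ r
  let ρ : D →+* L := IsLocalization.Away.lift f (g := (algebraMap R L).comp (algebraMap A R))
    (IsLocalization.Away.algebraMap_isUnit (S := L) fR)
  have hρ : ∀ a : A, ρ (algebraMap A D a) = algebraMap R L (algebraMap A R a) := fun a =>
    IsLocalization.Away.lift_eq _ _ a
  refine ⟨{ ι := ι, finite := hfin, K := K, field := fun _ => inferInstance, χ := fun i => (χ i).comp ρ,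
            B := fun i => (μ i).range, oneDim := fun i => (hB i).1, semilocal := fun i => (hB i).2.1,
            centre := fun i O hBO hO => ?_, inv := fun y hy => ?_ }⟩
  · have hA : ∀ a, ((χ i).comp ρ) (algebraMap A D a) ∈ O := fun a => by
      rw [RingHom.comp_apply, hρ, hχ]; exact hBO ⟨_, rfl⟩
    let a' : R →+* O := (μ i).codRestrict O.toSubring fun r => hBO ⟨r, rfl⟩
    have hP : (IsLocalRing.maximalIdeal O).comap a' = IsLocalRing.maximalIdeal R := by
      refine hdim i.1.asIdeal _ i.1.isPrime ((IsLocalRing.maximalIdeal O).comap_isPrime a') ?_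
      refine lt_of_le_of_ne (fun r hr => ?_) fun heq => ?_
      · rw [← hμker i] at hr
        rw [Ideal.mem_comap, show a' r = 0 from Subtype.ext hr]; exact Ideal.zero_mem _
      · refine (hB i).1.mem_span_ne_bot_of_valuation O hBO hO (eq_bot_iff.mpr ?_)
        rintro ⟨_, r, rfl⟩ hr
        have : r ∈ i.1.asIdeal := heq.ge hr
        rw [← hμker i] at this
        exact (Submodule.mem_bot _).mpr (Subtype.ext this)
    refine ⟨hA, fun a => ?_⟩
    have he : (⟨((χ i).comp ρ) (algebraMap A D a), hA a⟩ : O) = a' (algebraMap A R a) :=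
      Subtype.ext (by show χ i (ρ _) = μ i _; rw [hρ, hχ])
    rw [he, ← Ideal.mem_comap, hP, ← Ideal.mem_comap]
    exact (SetLike.ext_iff.mp hcomap a).symm
  · obtain ⟨M, hM, q, hq, hyq⟩ := exists_inverse (L := L) hh hfm (ρ y) ι (fun P => RingHom.ker (χ P))
      (fun Q hQ => by
        haveI := hQ
        have hne : Q.comap (algebraMap R L) ≠ IsLocalRing.maximalIdeal R := fun h =>
          hQ.ne_top (Q.eq_top_of_isUnit_mem (show algebraMap R L fR ∈ Q from h.ge hfm)
            (IsLocalization.Away.algebraMap_isUnit fR))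
        refine ⟨⟨⟨Q.comap (algebraMap R L), inferInstance⟩, hne⟩, fun z hz => ?_⟩
        obtain ⟨n, c, hc⟩ := IsLocalization.Away.surj fR z
        have h1 : c ∈ Q.comap (algebraMap R L) := by
          let i : ι := ⟨⟨Q.comap (algebraMap R L), inferInstance⟩, hne⟩
          show c ∈ i.1.asIdeal
          rw [← hμker i, RingHom.mem_ker, ← hχ, ← hc, map_mul, RingHom.mem_ker.mp hz, zero_mul]
        refine (hQ.mem_or_mem (hc ▸ h1 : z * algebraMap R L fR ^ n ∈ Q)).resolve_right fun h => ?_
        exact hQ.ne_top (Q.eq_top_of_isUnit_mem h ((IsLocalization.Away.algebraMap_isUnit fR).pow n)))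
      (fun P => by
        obtain ⟨n, hn, ⟨_, r, rfl⟩, hb, hgb⟩ := hy P
        refine ⟨n, hn, r, ?_, ?_⟩
        · haveI := (hB P).2.2
          rw [IsLocalRing.jacobson_eq_maximalIdeal ⊥ bot_ne_top, IsLocalRing.mem_maximalIdeal] at hb
          rw [IsLocalRing.mem_maximalIdeal]
          exact fun hu => hb (hu.map (μ P).rangeRestrict)
        · rw [RingHom.mem_ker, map_sub, map_mul, map_pow, map_one, hχ]
          exact sub_eq_zero.mpr hgb)
    obtain ⟨a, s, hs⟩ := IsLocalization.exists_mk'_eq 𝔭.primeCompl q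
    have haq : algebraMap A R a = q * algebraMap A R s := by rw [← hs, IsLocalization.mk'_spec]
    have ha : a ∈ 𝔭 := by
      rw [← hcomap, Ideal.mem_comap, haq]; exact Ideal.mul_mem_right _ _ hq
    let d := y ^ M * algebraMap A D a - algebraMap A D s
    have hd0 : ρ d = 0 := by
      rw [map_sub, map_mul, map_pow, hρ, hρ, haq, map_mul, ← mul_assoc, hyq, one_mul, sub_self]
    obtain ⟨n, c, hc⟩ := IsLocalization.Away.surj f d
    have hc0 : algebraMap R L (algebraMap A R c) = 0 := by
      rw [← hρ]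
      refine (congrArg ρ hc).symm.trans ?_
      rw [map_mul, hd0, zero_mul]
    obtain ⟨⟨_, k, rfl⟩, hk⟩ := (IsLocalization.map_eq_zero_iff (Submonoid.powers fR) L _).mp hc0
    have hk' : algebraMap A R (f ^ k * c) = 0 := by rw [map_mul, map_pow]; exact hk
    obtain ⟨s', hs'⟩ := (IsLocalization.map_eq_zero_iff 𝔭.primeCompl R _).mp hk'
    refine ⟨M, hM, a, ha, s, s.2, s', s'.2, ?_⟩
    have hu : IsUnit (algebraMap A D f) := IsLocalization.Away.algebraMap_isUnit f
    have h3 : algebraMap A D f ^ (k + n) * (algebraMap A D s' * d) = 0 := by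
      have h4 := congrArg (algebraMap A D) hs'
      rw [map_mul, map_mul, map_pow, map_zero, ← hc] at h4
      linear_combination h4
    exact (hu.pow _).mul_right_eq_zero.mp h3

end GrothLib.AmpleDimOne
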