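import Groth.Agent.Lib.SemiLoc.Radical
import Groth.Agent.Lib.SemiLoc.Dominate
import Mathlib.RingTheory.Localization.Away.Basic
import Mathlib.RingTheory.Localization.FractionRing
import Mathlib.RingTheory.LocalRing.ResidueField.Basic
import Mathlib.RingTheory.Ideal.MinimalPrime.Noetherian

/-!
# Elements with poles at all branches

The algebra behind ampleness in dimension one: an element of a ring with poles at finitely many
one-dimensional semilocal subrings of fields, and inverses of such elements over a punctured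
one-dimensional local ring.
-/

universe u

set_option autoImplicit false
set_option linter.style.haveILetI false

noncomputable section

namespace GrothLib.AmpleDimOne

open IsLocalRing Polynomial
open GrothLib.SemiLoc

/-- Finitely many elements can be combined to one with all of their poles. -/
theorem exists_combine {ι : Type*} [Finite ι] {Γ : Type u} [CommRing Γ] {K : ι → Type u}
    [∀ i, Field (K i)] (ψ : ∀ i, Γ →+* K i) (B : ∀ i, Subring (K i)) (hB : ∀ i, IsOneDim (B i))
    (ys : Finset Γ) :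
    ∃ y : Γ, ∀ i, ∀ V : ValuationSubring (K i), B i ≤ V.toSubring →
      (∃ z ∈ ys, ψ i z ∉ V) → ψ i y ∉ V := by
  classical
  induction ys using Finset.induction with
  | empty => exact ⟨0, fun i V _ ⟨z, hz, _⟩ => absurd hz (Finset.notMem_empty z)⟩
  | insert y₂ s hs ih =>
    obtain ⟨y₁, h₁⟩ := ih
    have : ∀ i, ∃ N₀ : ℕ, ∀ V : ValuationSubring (K i), B i ≤ V.toSubring → ψ i y₂ ∉ V →
        ∀ N, N₀ < N → ψ i y₁ + ψ i y₂ ^ N ∉ V := by
      intro i
      have := (hB i).frac
      obtain ⟨a, b, hb, hab⟩ := IsFractionRing.div_surjective (A := B i) (ψ i y₁)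
      obtain ⟨N₀, hN₀⟩ := (hB i).exists_bound (nonZeroDivisors.ne_zero hb)
      refine ⟨N₀, fun V hV hy N hN h => ?_⟩
      have hb0 : (b : K i) ≠ 0 := fun h => nonZeroDivisors.ne_zero hb (Subtype.ext h)
      have h2 : (b : K i) * ψ i y₂ ^ N ∈ V := by
        have h3 : (b : K i) * (ψ i y₁ + ψ i y₂ ^ N) - (a : K i) ∈ V.toSubring :=
          V.toSubring.sub_mem (V.mul_mem _ _ (hV b.2) h) (hV a.2)
        rw [← hab] at h3
        have e : (b : K i) * (algebraMap (B i) (K i) a / algebraMap (B i) (K i) b + ψ i y₂ ^ N) - (a : K i)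
            = (b : K i) * ψ i y₂ ^ N := by
          show (b : K i) * ((a : K i) / (b : K i) + ψ i y₂ ^ N) - (a : K i) = _
          field_simp
          ring
        rwa [e] at h3
      exact absurd (hN₀ V hV _ hy N h2) (not_le.mpr hN)
    choose N₀ hN₀ using this
    have := Fintype.ofFinite ι
    let N := Finset.univ.sup N₀ + 1
    refine ⟨y₁ + y₂ ^ N, fun i V hV hz => ?_⟩
    rw [map_add, map_pow]
    rcases em (ψ i y₂ ∈ V) with h | h
    · obtain ⟨z, hz, hzV⟩ := hz
      rcases Finset.mem_insert.mp hz with rfl | hz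
      · exact absurd h hzV
      · intro hc
        refine h₁ i V hV ⟨z, hz, hzV⟩ ?_
        have := sub_mem hc (pow_mem h N)
        simpa using this
    · exact hN₀ i V hV h N (Nat.lt_succ_of_le (Finset.le_sup (Finset.mem_univ i)))

/-- If at every valuation ring over every `B i` some element has a pole, one element has all poles;
its inverse has a power in the radical of each `B i`. -/
theorem exists_pole {ι : Type*} [Finite ι] {Γ : Type u} [CommRing Γ] {K : ι → Type u}
    [∀ i, Field (K i)] (ψ : ∀ i, Γ →+* K i) (B : ∀ i, Subring (K i)) (hB : ∀ i, IsOneDim (B i))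
    (hBsl : ∀ i, Finite (MaximalSpectrum (B i)))
    (hdet : ∀ i, ∀ V : ValuationSubring (K i), B i ≤ V.toSubring → V ≠ ⊤ → ∃ γ, ψ i γ ∉ V) :
    ∃ g : Γ, ∀ i, ∃ n, 0 < n ∧ ∃ b ∈ Ideal.jacobson (⊥ : Ideal (B i)), ψ i g ^ n * (b : K i) = 1 := by
  classical
  have hgen : ∀ i, (ψ i).range ⊔ B i = ⊤ := by
    intro i
    by_contra h
    obtain ⟨O, hO, hBO, hψO⟩ := exists_dvr_of_sup_ne_top (hB i) (ψ i).range (by rwa [sup_comm])
    obtain ⟨γ, hγ⟩ := hdet i O hBO (fun h => ne_top_of_dvr O (by rw [h]; rfl))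
    exact hγ (hψO ⟨γ, rfl⟩)
  have hfin : ∀ i, ∃ ys : Finset Γ, ∀ V : ValuationSubring (K i), B i ≤ V.toSubring → V ≠ ⊤ →
      ∃ y ∈ ys, ψ i y ∉ V := by
    intro i
    obtain ⟨ys, -, h⟩ := exists_finset_detect' (hB i) (hBsl i) (hgen i) 1 one_ne_zero
    choose f hf using fun y : (ψ i).range => RingHom.mem_range.mp y.2
    refine ⟨ys.image f, fun V hV hne => ?_⟩
    obtain ⟨y, hy, hyV⟩ := h V hV hne
    exact ⟨f y, Finset.mem_image_of_mem f hy, by rwa [hf y]⟩
  choose ys hys using hfin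
  have := Fintype.ofFinite ι
  obtain ⟨g, hg⟩ := exists_combine ψ B hB (Finset.univ.biUnion ys)
  have hpole : ∀ i, ∀ V : ValuationSubring (K i), B i ≤ V.toSubring → V ≠ ⊤ → ψ i g ∉ V := by
    intro i V hV hne
    obtain ⟨y, hy, hyV⟩ := hys i V hV hne
    exact hg i V hV ⟨y, Finset.mem_biUnion.mpr ⟨i, Finset.mem_univ _, hy⟩, hyV⟩
  refine ⟨g, fun i => ?_⟩
  obtain ⟨n, hn, b, hb, hbw⟩ := (hB i).exists_pow_mem_jacobson (w := (ψ i g)⁻¹) (fun V hV hne => by
    rw [inv_inv]; exact hpole i V hV hne)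
  refine ⟨n, hn, b, hb, ?_⟩
  have h0 : ψ i g ≠ 0 := by
    obtain ⟨O, hO, hBO, -⟩ := exists_dvr_of_sup_ne_top (hB i) (B i)
      (by rw [sup_idem]; exact (hB i).ne_top)
    intro h
    exact hpole i O hBO (fun h => ne_top_of_dvr O (by rw [h]; rfl)) (h ▸ O.zero_mem)
  rw [hbw, inv_pow, mul_inv_cancel₀ (pow_ne_zero n h0)]

/-- On a punctured one-dimensional local ring, an element whose inverse vanishes at every branch
has a power inverse to a function vanishing at the closed point. -/
theorem exists_inverse {R : Type u} [CommRing R] [IsNoetherianRing R] [IsLocalRing R] {h : R}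
    (hh : ∀ P : Ideal R, P.IsPrime → h ∈ P → P = maximalIdeal R)
    (hm : h ∈ maximalIdeal R)
    {L : Type u} [CommRing L] [Algebra R L] [IsLocalization.Away h L] (y : L)
    (ι : Type*) [Finite ι] (P : ι → Ideal L)
    (hP : ∀ Q : Ideal L, Q.IsPrime → ∃ i, P i ≤ Q)
    (hy : ∀ i, ∃ n, 0 < n ∧ ∃ r ∈ maximalIdeal R, y ^ n * algebraMap R L r - 1 ∈ P i) :
    ∃ M, 0 < M ∧ ∃ q ∈ maximalIdeal R, y ^ M * algebraMap R L q = 1 := by
  classical
  have := Fintype.ofFinite ι
  choose n hn r hr hz using hy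
  have hyu : IsUnit y := by
    by_contra hu
    obtain ⟨Q, hQ, hyQ⟩ := exists_max_ideal_of_mem_nonunits hu
    obtain ⟨i, hi⟩ := hP Q hQ.isPrime
    have h1 := hi (hz i)
    have h2 : y ^ n i * algebraMap R L (r i) ∈ Q :=
      Ideal.mul_mem_right _ _ (Ideal.pow_mem_of_mem _ hyQ _ (hn i))
    exact hQ.ne_top ((Ideal.eq_top_iff_one _).mpr (by simpa using sub_mem h2 h1))
  obtain ⟨x, hxy⟩ := hyu.exists_left_inv
  -- a monic polynomial congruent to a power of `X` killing `x`
  have hfac : ∀ i, x ^ n i - algebraMap R L (r i) ∈ P i := by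
    intro i
    have h1 := (P i).mul_mem_left (-(x ^ n i)) (hz i)
    have hxy' : x ^ n i * y ^ n i = 1 := by rw [← mul_pow, hxy, one_pow]
    have : -(x ^ n i) * (y ^ n i * algebraMap R L (r i) - 1) = x ^ n i - algebraMap R L (r i) := by
      linear_combination (-(algebraMap R L (r i))) * hxy'
    rwa [this] at h1
  let p₀ : R[X] := ∏ i, (X ^ n i - C (r i))
  have hnil : IsNilpotent (aeval x p₀) := by
    rw [← mem_nilradical, nilradical_eq_sInf, Submodule.mem_sInf]
    intro (Q : Ideal L) (hQ : Q.IsPrime)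
    obtain ⟨i, hi⟩ := hP Q hQ
    rw [map_prod]
    refine Ideal.mem_of_dvd Q (Finset.dvd_prod_of_mem _ (Finset.mem_univ i)) ?_
    rw [map_sub, map_pow, aeval_X, aeval_C]
    exact hi (hfac i)
  obtain ⟨e, he⟩ := hnil
  let p : R[X] := X * p₀ ^ e
  have hp : p.Monic := monic_X.mul (Monic.pow
    (monic_prod_of_monic _ _ fun i _ => monic_X_pow_sub_C _ (hn i).ne') e)
  have hpx : aeval x p = 0 := by simp only [p, map_mul, map_pow, he, mul_zero]
  have hint : IsIntegral R x := ⟨p, hp, by rwa [← aeval_def]⟩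
  let N := 1 + (∑ i, n i) * e
  have hmap : p.map (residue R) = X ^ N := by
    simp only [p, p₀, Polynomial.map_mul, Polynomial.map_pow, map_X, Polynomial.map_prod,
      Polynomial.map_sub, map_C]
    rw [show (∏ i, (X ^ n i - C (residue R (r i)))) = (X : (ResidueField R)[X]) ^ (∑ i, n i) from by
      rw [← Finset.prod_pow_eq_pow_sum]
      exact Finset.prod_congr rfl fun i _ => by rw [(residue_eq_zero_iff (r i)).mpr (hr i), map_zero, sub_zero]]
    rw [← pow_mul, ← pow_succ', Nat.add_comm]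
  let A := Algebra.adjoin R ({x} : Set L)
  let xA : A := ⟨x, Algebra.self_mem_adjoin_singleton R x⟩
  let 𝔪 : Ideal A := (maximalIdeal R).map (algebraMap R A)
  have hxN : xA ^ N ∈ 𝔪 := by
    have h0 : aeval xA p = 0 := Subtype.ext (by rw [Subalgebra.coe_zero, aeval_subalgebra_coe]; exact hpx)
    have h1 : aeval xA (p - X ^ N) ∈ 𝔪 := by
      rw [aeval_eq_sum_range]
      refine Ideal.sum_mem _ fun k _ => ?_
      rw [Algebra.smul_def]
      refine Ideal.mul_mem_right _ _ (Ideal.mem_map_of_mem _ ((residue_eq_zero_iff _).mp ?_))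
      rw [← coeff_map, Polynomial.map_sub, hmap, Polynomial.map_pow, map_X, sub_self, coeff_zero]
    rw [map_sub, h0, map_pow, aeval_X, zero_sub] at h1
    exact neg_mem_iff.mp h1
  -- a power of `h` clears denominators
  obtain ⟨s, hs⟩ := hint.fg_adjoin_singleton
  obtain ⟨⟨c, hc⟩, hcs⟩ :=
    IsLocalization.exist_integer_multiples_of_finset (Submonoid.powers h) s
  obtain ⟨k, rfl⟩ := hc
  have hclear : ∀ z : A, ∃ b : R, algebraMap R L b = algebraMap R L (h ^ k) * (z : L) := by
    rintro ⟨z, hz⟩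
    have hz' : z ∈ Submodule.span R (s : Set L) := by rw [hs]; exact hz
    induction hz' using Submodule.span_induction with
    | mem a ha => obtain ⟨t, ht⟩ := hcs a ha; exact ⟨t, by rw [ht, Algebra.smul_def]⟩
    | zero => exact ⟨0, by simp⟩
    | add a b ha hb iha ihb =>
      obtain ⟨t₁, h₁⟩ := iha (hs.le ha)
      obtain ⟨t₂, h₂⟩ := ihb (hs.le hb)
      exact ⟨t₁ + t₂, by rw [map_add, h₁, h₂]; exact (mul_add _ _ _).symm⟩
    | smul t a ha iha =>
      obtain ⟨t₁, h₁⟩ := iha (hs.le ha)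
      refine ⟨t * t₁, ?_⟩
      rw [map_mul, h₁]
      show _ = algebraMap R L (h ^ k) * (t • a)
      rw [Algebra.smul_def]; ring
  obtain ⟨l, hl⟩ : ∃ l, maximalIdeal R ^ l ≤ Ideal.span {h} := by
    refine Ideal.exists_pow_le_of_le_radical_of_fg ?_ (IsNoetherian.noetherian _)
    rw [Ideal.radical_eq_sInf]
    refine le_sInf fun J hJ => ?_
    rw [hh J hJ.2 (hJ.1 (Ideal.mem_span_singleton_self h))]
  have hclear' : ∀ z ∈ 𝔪, ∀ c : A, ∃ b ∈ maximalIdeal R,
      algebraMap R L b = algebraMap R L (h ^ k) * ((c * z : A) : L) := by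
    intro z hz
    induction hz using Submodule.span_induction with
    | mem a ha =>
      obtain ⟨t, ht, rfl⟩ := ha
      intro c
      obtain ⟨b, hb⟩ := hclear c
      refine ⟨t * b, Ideal.mul_mem_right _ _ ht, ?_⟩
      rw [map_mul, hb]
      show _ = algebraMap R L (h ^ k) * ((c : L) * algebraMap R L t)
      ring
    | zero => exact fun c => ⟨0, Ideal.zero_mem _, by simp⟩
    | add a b _ _ iha ihb =>
      intro c
      obtain ⟨t₁, h₁, h₁'⟩ := iha c
      obtain ⟨t₂, h₂, h₂'⟩ := ihb c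
      exact ⟨t₁ + t₂, add_mem h₁ h₂, by rw [map_add, h₁', h₂', mul_add c, Subalgebra.coe_add, mul_add]⟩
    | smul d a _ iha =>
      intro c
      obtain ⟨t₁, h₁, h₁'⟩ := iha (c * d)
      exact ⟨t₁, h₁, by rw [h₁', smul_eq_mul, mul_assoc]⟩
  have hpow : (maximalIdeal R ^ (l * k)).map (algebraMap R A) ≤ Ideal.span {algebraMap R A (h ^ k)} := by
    rw [← Set.image_singleton, ← Ideal.map_span, ← Ideal.span_singleton_pow]
    exact Ideal.map_mono (by rw [pow_mul]; exact Ideal.pow_right_mono hl k)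
  have hxk : (xA ^ N) ^ (l * k) ∈ (maximalIdeal R ^ (l * k)).map (algebraMap R A) := by
    rw [Ideal.map_pow]; exact Ideal.pow_mem_pow hxN _
  obtain ⟨c, hc⟩ := Ideal.mem_span_singleton'.mp (hpow hxk)
  obtain ⟨q, hq, hq'⟩ := hclear' _ hxN c
  refine ⟨N * (l * k + 1), Nat.mul_pos (by omega) (Nat.succ_pos _), q, hq, ?_⟩
  have hqx : algebraMap R L q = x ^ (N * (l * k + 1)) := by
    have h2 : ((xA ^ N) ^ (l * k + 1) : A) = algebraMap R A (h ^ k) * (c * xA ^ N) := by
      rw [pow_succ, ← hc]; ring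
    rw [hq', pow_mul]
    exact (congrArg (fun t : A => (t : L)) h2).symm
  rw [hqx, ← mul_pow, mul_comm, hxy, one_pow]

end GrothLib.AmpleDimOne
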