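import Groth.Agent.Lib.AmpleDimOne.Branches
import Groth.Agent.Lib.Euler.AmpleExists
import Groth.Agent.Lib.GrpdQuot.Invariant
import Groth.Agent.Lib.Ample.EquationCocycle
import Groth.Agent.Lib.Ample.Product
import Groth.Agent.Lib.Ample.Functorial
import Mathlib.AlgebraicGeometry.Morphisms.Separated

/-!
# Ample modules on separated Noetherian schemes of dimension at most one
-/

universe u

set_option autoImplicit false
set_option linter.style.haveILetI false
set_option backward.isDefEq.respectTransparency false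

open CategoryTheory CategoryTheory.Limits AlgebraicGeometry TopologicalSpace Opposite
open GrothLib.Ample (Cocycle Equations res)

noncomputable section

namespace GrothLib.AmpleDimOne

variable {X : Scheme.{u}} [IsNoetherian X]

/-- Every point has an affine neighbourhood containing all generic points. -/
theorem exists_affine_nbhd (p : X) :
    ∃ V : X.Opens, IsAffineOpen V ∧ p ∈ V ∧ genericPoints (X : Type u) ⊆ V := by
  classical
  obtain ⟨W, hW, hGW⟩ := Euler.exists_affine_containing_genericPoints (X := X)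
  obtain ⟨V₀, hV₀, hpV₀, -⟩ := exists_isAffineOpen_mem_and_subset (x := p) (U := (⊤ : X.Opens)) trivial
  have hgfin : (genericPoints (X : Type u)).Finite :=
    genericPoints.finite NoetherianSpace.finite_irreducibleComponents
  have hclos : closure (V₀ : Set X) ⊆ closure (genericPoints (X : Type u) ∩ V₀) := by
    refine closure_minimal (fun y hy => ?_) isClosed_closure
    have hyc : y ∈ closure (genericPoints (X : Type u)) := by rw [genericPoints.closure]; trivial
    rw [← Set.biUnion_of_singleton (genericPoints (X : Type u)), hgfin.closure_biUnion] at hyc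
    obtain ⟨η, hη, hyη⟩ := Set.mem_iUnion₂.mp hyc
    have hmem : η ∈ genericPoints (X : Type u) ∩ V₀ :=
      ⟨hη, (specializes_iff_mem_closure.mpr hyη).mem_open V₀.2 hy⟩
    exact closure_mono (Set.singleton_subset_iff.mpr hmem) hyη
  have hout : ∀ η ∈ genericPoints (X : Type u), η ∉ (V₀ : Set X) → η ∉ closure (V₀ : Set X) := by
    intro η hη hηV hηc
    have h := hclos hηc
    rw [← Set.biUnion_of_singleton (genericPoints (X : Type u) ∩ V₀),
      (hgfin.inter_of_left _).closure_biUnion] at h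
    obtain ⟨ζ, ⟨hζ, hζV⟩, hηζ⟩ := Set.mem_iUnion₂.mp h
    have hle : closure ({η} : Set X) ≤ closure {ζ} :=
      closure_minimal (Set.singleton_subset_iff.mpr hηζ) isClosed_closure
    have heq : closure ({η} : Set X) = closure {ζ} :=
      le_antisymm hle (hη.2 isIrreducible_singleton.closure hle)
    exact hηV ((Inseparable.eq (inseparable_iff_closure_eq.mpr heq)).symm ▸ hζV)
  let F : Set X := genericPoints (X : Type u) \ (V₀ : Set X)
  rcases F.eq_empty_or_nonempty with hF | hF
  · exact ⟨V₀, hV₀, hpV₀, fun η hη => by_contra fun h => Set.eq_empty_iff_forall_notMem.mp hF η ⟨hη, h⟩⟩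
  let O : X.Opens := W ⊓ ⟨(closure (V₀ : Set X))ᶜ, isClosed_closure.isOpen_compl⟩
  obtain ⟨f, hfO, hFf⟩ := GrpdQuot.exists_affine_le_of_finite hW O inf_le_left
    (hgfin.subset Set.sdiff_subset) hF fun η hη => ⟨hGW hη.1, hout η hη.1 hη.2⟩
  haveI : IsAffine W.toScheme := hW
  let U : X.Opens := W.ι ''ᵁ W.toScheme.basicOpen f
  have hU : IsAffineOpen U := ((isAffineOpen_top W.toScheme).basicOpen f).image_of_isOpenImmersion _
  have hdisj : Disjoint V₀ U := by
    rw [disjoint_iff]
    ext y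
    exact ⟨fun hy => (hfO hy.2).2 (subset_closure hy.1), fun h => h.elim⟩
  refine ⟨V₀ ⊔ U, hV₀.sup_of_disjoint hU hdisj, Or.inl hpV₀, fun η hη => ?_⟩
  by_cases h : η ∈ (V₀ : Set X)
  · exact Or.inl h
  · exact Or.inr (hFf ⟨hη, h⟩)

/-- Two ring maps to a field agree on the closed point of a valuation ring: the separatedness
argument. -/
theorem not_forall_mem [X.IsSeparated] {V U : X.Opens} (hV : IsAffineOpen V) (hU : IsAffineOpen U)
    {x : X} (hxU : x ∈ U) (hxV : x ∉ V) {f : Γ(X, U)} (hfV : X.basicOpen f ≤ V)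
    {K : Type u} [Field K] (χ : Γ(X, X.basicOpen f) →+* K) (O : ValuationSubring K)
    (hA : ∀ a : Γ(X, U), χ (res (X.basicOpen_le f) a) ∈ O)
    (hcomap : ∀ a : Γ(X, U), a ∈ (hU.primeIdealOf ⟨x, hxU⟩).asIdeal ↔
      (⟨χ (res (X.basicOpen_le f) a), hA a⟩ : O) ∈ IsLocalRing.maximalIdeal O) :
    ∃ γ : Γ(X, V), χ (res hfV γ) ∉ O := by
  by_contra hcon
  push Not at hcon
  let a₁ : Γ(X, U) →+* O := (χ.comp (res (X.basicOpen_le f))).codRestrict O.toSubring hA
  let a₂ : Γ(X, V) →+* O := (χ.comp (res hfV)).codRestrict O.toSubring hcon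
  let φ₁ : Spec (CommRingCat.of O) ⟶ X := Spec.map (CommRingCat.ofHom a₁) ≫ hU.fromSpec
  let φ₂ : Spec (CommRingCat.of O) ⟶ X := Spec.map (CommRingCat.ofHom a₂) ≫ hV.fromSpec
  let j : Spec (CommRingCat.of K) ⟶ Spec (CommRingCat.of O) :=
    Spec.map (CommRingCat.ofHom (algebraMap O K))
  have hD : IsAffineOpen (X.basicOpen f) := hU.basicOpen f
  have h₁ : j ≫ φ₁ = Spec.map (CommRingCat.ofHom χ) ≫ hD.fromSpec := by
    rw [← hU.map_fromSpec hD (homOfLE (X.basicOpen_le f)).op]
    show Spec.map _ ≫ Spec.map _ ≫ _ = Spec.map _ ≫ Spec.map _ ≫ _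
    rw [← Spec.map_comp_assoc, ← Spec.map_comp_assoc]
    rfl
  have h₂ : j ≫ φ₂ = Spec.map (CommRingCat.ofHom χ) ≫ hD.fromSpec := by
    rw [← hV.map_fromSpec hD (homOfLE hfV).op]
    show Spec.map _ ≫ Spec.map _ ≫ _ = Spec.map _ ≫ Spec.map _ ≫ _
    rw [← Spec.map_comp_assoc, ← Spec.map_comp_assoc]
    rfl
  haveI : IsDominant j := by
    refine ⟨(PrimeSpectrum.denseRange_comap_iff_ker_le_nilRadical (algebraMap O K)).mpr ?_⟩
    intro z hz
    rw [RingHom.mem_ker] at hz
    rw [show z = 0 from Subtype.ext hz]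
    exact Ideal.zero_mem _
  have heq : φ₁ = φ₂ := ext_of_isDominant j (h₁.trans h₂.symm)
  let c : Spec (CommRingCat.of O) := IsLocalRing.closedPoint O
  have hc₁ : φ₁ c = x := by
    show hU.fromSpec (Spec.map (CommRingCat.ofHom a₁) c) = x
    rw [show Spec.map (CommRingCat.ofHom a₁) c = hU.primeIdealOf ⟨x, hxU⟩ from
      PrimeSpectrum.ext (Ideal.ext fun a => (hcomap a).symm)]
    exact hU.fromSpec_primeIdealOf ⟨x, hxU⟩
  have hc₂ : φ₂ c ∈ V := by
    show _ ∈ (V : Set X)
    rw [← hV.range_fromSpec]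
    exact ⟨_, rfl⟩
  rw [← heq, hc₁] at hc₂
  exact hxV hc₂

/-- Facts about an equation of a closed point. -/
theorem primes_of_equation (hd : topologicalKrullDim X ≤ 1) {U : X.Opens} (hU : IsAffineOpen U) {x : X}
    (hxU : x ∈ U) {f : Γ(X, U)} (hf : (X.basicOpen f : Set X) = (U : Set X) \ {x}) :
    (∀ p : PrimeSpectrum Γ(X, U), p.asIdeal ≤ (hU.primeIdealOf ⟨x, hxU⟩).asIdeal → f ∈ p.asIdeal →
      p = hU.primeIdealOf ⟨x, hxU⟩) ∧
    (∀ p q : PrimeSpectrum Γ(X, U), p.asIdeal < q.asIdeal →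
      q.asIdeal < (hU.primeIdealOf ⟨x, hxU⟩).asIdeal → False) ∧
    f ∈ (hU.primeIdealOf ⟨x, hxU⟩).asIdeal := by
  have hpre : ∀ p, hU.fromSpec p ∈ X.basicOpen f ↔ f ∉ p.asIdeal := fun p => by
    rw [← Scheme.Hom.mem_preimage, hU.fromSpec_preimage_basicOpen f]
    exact PrimeSpectrum.mem_basicOpen f _
  have hinj : Function.Injective hU.fromSpec := hU.fromSpec.isOpenEmbedding.injective
  refine ⟨fun p hp hfp => hinj ?_, fun p q hpq hq => ?_, ?_⟩
  · rw [hU.fromSpec_primeIdealOf]
    have h1 : hU.fromSpec p ∈ (U : Set X) := by rw [← hU.range_fromSpec]; exact ⟨p, rfl⟩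
    have h2 : hU.fromSpec p ∉ (X.basicOpen f : Set X) := fun h => (hpre p).mp h hfp
    rw [hf] at h2
    exact by_contra fun h => h2 ⟨h1, h⟩
  · have key : ∀ a b : PrimeSpectrum Γ(X, U), a.asIdeal < b.asIdeal → hU.fromSpec b < hU.fromSpec a :=
      fun a b hab => lt_iff_le_not_ge.mpr ⟨((PrimeSpectrum.le_iff_specializes a b).mp hab.le).map
        hU.fromSpec.continuous, fun h => hab.ne (congrArg PrimeSpectrum.asIdeal (hinj
          (Specializes.antisymm (((PrimeSpectrum.le_iff_specializes a b).mp hab.le).map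
            hU.fromSpec.continuous) h).eq))⟩
    exact Euler.not_lt_lt hd (key q _ hq) (key p q hpq)
  · by_contra h
    have h1 : hU.fromSpec (hU.primeIdealOf ⟨x, hxU⟩) ∈ (X.basicOpen f : Set X) := (hpre _).mpr h
    rw [hU.fromSpec_primeIdealOf, hf] at h1
    exact h1.2 rfl

/-- The local equations of the complement of an affine open: one function on the open with a common
pole order along the complement. -/
theorem exists_pole_equations [X.IsSeparated] (hd : topologicalKrullDim X ≤ 1) {V : X.Opens}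
    (hV : IsAffineOpen V) (hG : genericPoints (X : Type u) ⊆ V) :
    ∃ (g : Γ(X, V)) (N : ((V : Set X)ᶜ : Set X) → X.Opens) (q : ∀ x, Γ(X, N x)),
      ∀ x, x.1 ∈ N x ∧ (N x : Set X) ⊆ ((V : Set X)ᶜ \ {x.1})ᶜ ∧
        (X.basicOpen (q x) : Set X) = (N x : Set X) \ {x.1} ∧
        res (inf_le_right : N x ⊓ V ≤ V) g * res (inf_le_left : N x ⊓ V ≤ N x) (q x) = 1 := by
  classical
  have hcl : ∀ x ∈ (V : Set X)ᶜ, IsClosed ({x} : Set X) := fun x hx =>
    Euler.isClosed_singleton_of_notMem_genericPoints hd fun h => hx (hG h)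
  have hSfin : ((V : Set X)ᶜ).Finite := Euler.finite_of_closed_points V.2.isClosed_compl hcl
  haveI : Finite ((V : Set X)ᶜ : Set X) := hSfin.to_subtype
  have hcl' : ∀ x : ((V : Set X)ᶜ : Set X), IsClosed ((V : Set X)ᶜ \ {x.1}) := fun x => by
    rw [← Set.biUnion_of_singleton ((V : Set X)ᶜ \ {x.1})]
    exact (hSfin.subset Set.sdiff_subset).isClosed_biUnion fun y hy => hcl y hy.1
  choose U f hxU hU hUO hf using fun x : ((V : Set X)ᶜ : Set X) =>
    Euler.exists_equation hd (hcl x x.2) (fun h => x.2 (hG h))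
      (O := ⟨((V : Set X)ᶜ \ {x.1})ᶜ, (hcl' x).isOpen_compl⟩) (fun h => h.2 rfl)
  have hfV : ∀ x, X.basicOpen (f x) ≤ V := fun x y hy => by
    have h1 : y ∈ (U x : Set X) \ {x.1} := hf x ▸ hy
    exact by_contra fun h => hUO x h1.1 ⟨h, h1.2⟩
  have hVf : ∀ x, U x ⊓ V ≤ X.basicOpen (f x) := fun x y hy => by
    have h1 : y ∈ (U x : Set X) \ {x.1} := ⟨hy.1, fun h => x.2 (Set.mem_singleton_iff.mp h ▸ hy.2)⟩
    rw [← hf x] at h1
    exact h1
  -- the branches
  haveI : ∀ x, IsLocalization.Away (f x) Γ(X, X.basicOpen (f x)) :=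
    fun x => (hU x).isLocalization_basicOpen (f x)
  haveI : ∀ x, IsNoetherianRing Γ(X, U x) := fun x => IsLocallyNoetherian.component_noetherian ⟨U x, hU x⟩
  have hbr : ∀ x, Nonempty (Branches Γ(X, U x) ((hU x).primeIdealOf ⟨x.1, hxU x⟩).asIdeal
      Γ(X, X.basicOpen (f x))) := fun x => by
    obtain ⟨h1, h2, h3⟩ := primes_of_equation hd (hU x) (hxU x) (hf x)
    exact nonempty_branches _ (f x) h3
      (fun p hp hle hfp => congrArg PrimeSpectrum.asIdeal (h1 ⟨p, hp⟩ hle hfp))
      (fun p q hp hq hpq hq' => h2 ⟨p, hp⟩ ⟨q, hq⟩ hpq hq') _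
  have Br := fun x => Classical.choice (hbr x)
  let ι := (x : ((V : Set X)ᶜ : Set X)) × (Br x).ι
  haveI : ∀ x, Finite (Br x).ι := fun x => (Br x).finite
  letI : ∀ i : ι, Field ((Br i.1).K i.2) := fun i => (Br i.1).field i.2
  obtain ⟨g, hg⟩ := exists_pole (ι := ι) (K := fun i => (Br i.1).K i.2)
    (fun i => ((Br i.1).χ i.2).comp (res (hfV i.1))) (fun i => (Br i.1).B i.2)
    (fun i => (Br i.1).oneDim i.2) (fun i => (Br i.1).semilocal i.2) fun i O hBO hO => by
      obtain ⟨hA, hiff⟩ := (Br i.1).centre i.2 O hBO hO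
      exact not_forall_mem hV (hU i.1) (hxU i.1) i.1.2 (hfV i.1) ((Br i.1).χ i.2) O hA hiff
  -- per point
  have key : ∀ x, ∃ M, 0 < M ∧ ∃ (N : X.Opens) (q : Γ(X, N)) (hN : N ≤ U x), x.1 ∈ N ∧
      (X.basicOpen q : Set X) = (N : Set X) \ {x.1} ∧
      res (inf_le_right : N ⊓ V ≤ V) g ^ M * res (inf_le_left : N ⊓ V ≤ N) q = 1 := by
    intro x
    obtain ⟨M, hM, a, ha, s, hs, s', hs', heq⟩ := (Br x).inv (res (hfV x) g) fun i => hg ⟨x, i⟩
    let N : X.Opens := X.basicOpen (s * s')
    have hNU : N ≤ U x := X.basicOpen_le _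
    have hxN : x.1 ∈ N := by
      have h1 : (hU x).primeIdealOf ⟨x.1, hxU x⟩ ∈ PrimeSpectrum.basicOpen (s * s') :=
        fun h => (((hU x).primeIdealOf ⟨x.1, hxU x⟩).isPrime.mem_or_mem h).elim hs hs'
      rw [← (hU x).fromSpec_preimage_basicOpen, Scheme.Hom.mem_preimage, (hU x).fromSpec_primeIdealOf] at h1
      exact h1
    have hu2 : IsUnit (res hNU s * res hNU s') := by
      rw [← map_mul]; exact RingedSpace.isUnit_res_basicOpen X.toRingedSpace (s * s')
    obtain ⟨si, hsi⟩ := (isUnit_of_mul_isUnit_left hu2).exists_left_inv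
    let qN : Γ(X, N) := res hNU a * si
    have hNV : N ⊓ V ≤ X.basicOpen (f x) := (inf_le_inf_right _ hNU).trans (hVf x)
    have hmain : res (inf_le_right : N ⊓ V ≤ V) g ^ M * res (inf_le_left : N ⊓ V ≤ N) qN = 1 := by
      have h3 := congrArg (res hNV) heq
      change res hNV (res (X.basicOpen_le (f x)) s' * (res (hfV x) g ^ M * res (X.basicOpen_le (f x)) a -
        res (X.basicOpen_le (f x)) s)) = res hNV 0 at h3
      simp only [map_mul, map_sub, map_pow, map_zero, Ample.res_res] at h3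
      have hu' : IsUnit (res (inf_le_left.trans hNU : N ⊓ V ≤ U x) s') := by
        rw [← Ample.res_res hNU (inf_le_left : N ⊓ V ≤ N)]
        exact (isUnit_of_mul_isUnit_right hu2).map _
      rw [hu'.mul_right_eq_zero, sub_eq_zero] at h3
      simp only [qN, map_mul, Ample.res_res]
      rw [← mul_assoc, h3, ← Ample.res_res hNU (inf_le_left : N ⊓ V ≤ N), ← map_mul, mul_comm, hsi, map_one]
    refine ⟨M, hM, N, qN, hNU, hxN, Set.Subset.antisymm ?_ ?_, hmain⟩
    · intro z hz
      refine ⟨X.basicOpen_le qN hz, fun hzx => ?_⟩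
      rw [Set.mem_singleton_iff] at hzx
      subst hzx
      have h1 : x.1 ∈ X.basicOpen (res hNU a) := by
        rw [show qN = res hNU a * si from rfl, Scheme.basicOpen_mul] at hz
        exact hz.1
      rw [Scheme.basicOpen_res] at h1
      have h2 : (hU x).primeIdealOf ⟨x.1, hxU x⟩ ∈ (hU x).fromSpec ⁻¹ᵁ X.basicOpen a := by
        rw [Scheme.Hom.mem_preimage, (hU x).fromSpec_primeIdealOf]; exact h1.2
      rw [(hU x).fromSpec_preimage_basicOpen] at h2
      exact h2 ha
    · rintro z ⟨hzN, hzx⟩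
      have hzV : z ∈ V := by_contra fun h => hUO x (hNU hzN) ⟨h, hzx⟩
      have hu : IsUnit (res (inf_le_left : N ⊓ V ≤ N) qN) := IsUnit.of_mul_eq_one _ ((mul_comm _ _).trans hmain)
      have h3 := Scheme.basicOpen_of_isUnit X hu
      rw [Scheme.basicOpen_res] at h3
      exact (h3.ge ⟨hzN, hzV⟩).2
  choose M hM N q hNU hxN hqN hgq using key
  haveI := Fintype.ofFinite ((V : Set X)ᶜ : Set X)
  refine ⟨g ^ ∏ x, M x, N, fun x => q x ^ ((∏ y, M y) / M x), fun x => ⟨hxN x, (hNU x).trans (hUO x), ?_, ?_⟩⟩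
  · rw [Scheme.basicOpen_pow]
    · exact hqN x
    · exact Nat.div_pos (Nat.le_of_dvd (Finset.prod_pos fun y _ => hM y)
        (Finset.dvd_prod_of_mem M (Finset.mem_univ x))) (hM x)
  · rw [map_pow, map_pow]
    conv_lhs => enter [1, 2]; rw [← Nat.mul_div_cancel' (Finset.dvd_prod_of_mem M (Finset.mem_univ x))]
    rw [pow_mul, ← mul_pow, hgq, one_pow]

/-- An affine open containing the generic points is the locus of a section of a cocycle generated
by two sections. -/
theorem exists_cocycle_pair [X.IsSeparated] (hd : topologicalKrullDim X ≤ 1) {V : X.Opens}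
    (hV : IsAffineOpen V) (hG : genericPoints (X : Type u) ⊆ V) :
    ∃ (c : Cocycle X) (s t : c.sect 1 ⊤), c.locus s = V ∧ ∀ p : X, p ∈ c.locus s ∨ p ∈ c.locus t := by
  classical
  obtain ⟨g, N, q, hN⟩ := exists_pole_equations hd hV hG
  choose hxN hNsub hq hgq using hN
  let E : Equations X :=
    { ι := Option ((V : Set X)ᶜ : Set X)
      D := fun o => o.elim V N
      f := fun o => Option.rec (motive := fun o => Γ(X, (o.elim V N : X.Opens))) 1 q o
      V := V
      cover := eq_top_iff.2 fun y _ => by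
        by_cases hy : y ∈ V
        · exact Opens.mem_iSup.2 ⟨none, hy⟩
        · exact Opens.mem_iSup.2 ⟨some ⟨y, hy⟩, hxN ⟨y, hy⟩⟩
      disjoint := by
        rintro (_ | x) (_ | y) hne z ⟨h1, h2⟩
        · exact h1
        · exact h1
        · exact h2
        · by_contra hzV
          refine hne (congrArg some (Subtype.ext ?_))
          exact ((not_not.1 fun h => hNsub x h1 ⟨hzV, h⟩).symm.trans
            (not_not.1 fun h => hNsub y h2 ⟨hzV, h⟩))
      basicOpen_eq := by
        rintro (_ | x)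
        · exact (Scheme.basicOpen_of_isUnit X isUnit_one).trans (inf_idem V).symm
        · refine Opens.ext ((hq x).trans ?_)
          ext z
          exact ⟨fun ⟨hz, hzx⟩ => ⟨hz, by_contra fun h => hNsub x hz ⟨h, hzx⟩⟩,
            fun ⟨hz, hzV⟩ => ⟨hz, fun h => x.2 (Set.mem_singleton_iff.1 h ▸ hzV)⟩⟩ }
  let t' : ∀ o : E.ι, Γ(X, E.D o) := fun o =>
    Option.rec (motive := fun o => Γ(X, (o.elim V N : X.Opens))) g (fun _ => 1) o
  -- on `V` the second family is `g` times the first
  have ht : ∀ (o : E.ι) {W : X.Opens} (h : W ≤ E.D o) (hWV : W ≤ E.V),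
      res h (t' o) = res hWV g * res h (E.f o) := by
    rintro (_ | x) W h hWV
    · show res h g = res hWV g * res h 1
      rw [map_one, mul_one]
      exact rfl
    · show res h 1 = res hWV g * res h (q x)
      have hle : W ≤ N x ⊓ V := le_inf h hWV
      have := congrArg (res hle) (hgq x)
      rw [map_one, map_mul, Ample.res_res, Ample.res_res] at this
      rw [map_one]
      exact this.symm
  let t : E.cocycle.sect 1 ⊤ := ⟨fun o => res inf_le_right (t' o), fun i j W hi hj => by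
    rw [pow_one, Ample.res_res, Ample.res_res]
    by_cases hij : i = j
    · subst hij
      rw [Cocycle.G_self, one_mul]
    · have hWV : W ≤ E.V := (le_inf (hi.trans inf_le_right) (hj.trans inf_le_right)).trans (E.disjoint i j hij)
      refine (ht i (hi.trans inf_le_right) hWV).trans (Eq.trans ?_ (congrArg (_ * ·) (ht j (hj.trans inf_le_right) hWV)).symm)
      show _ = res _ (E.g i j) * _
      rw [mul_left_comm, E.res_g_mul i j]⟩
  refine ⟨E.cocycle, E.section₁, t, E.locus_section₁, fun p => ?_⟩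
  by_cases hp : p ∈ V
  · exact Or.inl (by rw [E.locus_section₁]; exact hp)
  · refine Or.inr (Opens.mem_iSup.2 ⟨some ⟨p, hp⟩, ?_⟩)
    show p ∈ X.basicOpen (res inf_le_right (1 : Γ(X, N ⟨p, hp⟩)))
    rw [map_one, Scheme.basicOpen_of_isUnit X isUnit_one]
    exact ⟨trivial, hxN ⟨p, hp⟩⟩

/-- A separated Noetherian scheme of dimension at most one has an ample invertible module. -/
theorem exists_isAmple [X.IsSeparated] (hd : topologicalKrullDim X ≤ 1) :
    ∃ L : X.Modules, CohB1.IsAmple L := by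
  classical
  choose V hV hpV hGV using fun p : X => exists_affine_nbhd p
  obtain ⟨F, hF⟩ := (isCompact_univ (X := X)).elim_finite_subcover (fun p => (V p : Set X))
    (fun p => (V p).2) (fun p _ => Set.mem_iUnion.mpr ⟨p, hpV p⟩)
  have hprod : ∀ F : Finset X, ∃ c : Cocycle X, (∀ p, ∃ a : c.sect 1 ⊤, p ∈ c.locus a) ∧
      ∀ v ∈ F, ∀ p ∈ V v, ∃ a : c.sect 1 ⊤, p ∈ c.locus a ∧ c.locus a ≤ V v := by
    intro F
    induction F using Finset.induction with
    | empty =>
      let E : Equations X :=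
        { ι := PUnit, D := fun _ => ⊤, f := fun _ => 1, V := ⊤
          cover := iSup_const
          disjoint := fun i j h => absurd (Subsingleton.elim i j) h
          basicOpen_eq := fun _ => (Scheme.basicOpen_of_isUnit X isUnit_one).trans (inf_idem ⊤).symm }
      exact ⟨E.cocycle, fun p => ⟨E.section₁, by rw [E.locus_section₁]; trivial⟩,
        fun v hv => absurd hv (Finset.notMem_empty v)⟩
    | insert w F hw ih =>
      obtain ⟨c, hgen, hloc⟩ := ih
      obtain ⟨c', s, t, hs, hst⟩ := exists_cocycle_pair hd (hV w) (hGV w)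
      refine ⟨c.prod c', fun p => ?_, fun v hv p hp => ?_⟩
      · obtain ⟨a, ha⟩ := hgen p
        rcases hst p with h | h
        · exact ⟨c.mulProd c' a s, by rw [Cocycle.locus_mulProd]; exact ⟨ha, h⟩⟩
        · exact ⟨c.mulProd c' a t, by rw [Cocycle.locus_mulProd]; exact ⟨ha, h⟩⟩
      · rcases Finset.mem_insert.mp hv with rfl | hv
        · obtain ⟨a, ha⟩ := hgen p
          exact ⟨c.mulProd c' a s, by rw [Cocycle.locus_mulProd, hs]; exact ⟨⟨ha, hp⟩, inf_le_right⟩⟩
        · obtain ⟨a, ha, hale⟩ := hloc v hv p hp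
          rcases hst p with h | h
          · exact ⟨c.mulProd c' a s, by rw [Cocycle.locus_mulProd]; exact ⟨⟨ha, h⟩, inf_le_left.trans hale⟩⟩
          · exact ⟨c.mulProd c' a t, by rw [Cocycle.locus_mulProd]; exact ⟨⟨ha, h⟩, inf_le_left.trans hale⟩⟩
  obtain ⟨c, -, hloc⟩ := hprod F
  refine ⟨c.twist 1, (c.isAmple_iff (Iso.refl _)).mpr ⟨inferInstance, c.isAmp_of_quasiAffine_loci fun p => ?_⟩⟩
  obtain ⟨v, hv, hpv⟩ := Set.mem_iUnion₂.mp (hF (Set.mem_univ p))
  obtain ⟨a, ha, hle⟩ := hloc v hv p hpv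
  haveI : IsAffine (V v).toScheme := hV v
  haveI : CompactSpace (c.locus a : Scheme.{u}) :=
    isCompact_iff_compactSpace.mp (NoetherianSpace.isCompact _)
  exact ⟨0, a, ha, Scheme.IsQuasiAffine.of_isImmersion (X.homOfLE hle)⟩

end GrothLib.AmpleDimOne
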